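import Groth.Agent.PLine8.Model

set_option autoImplicit false
set_option maxHeartbeats 1000000
universe u
attribute [local instance] MvPolynomial.gradedAlgebra

open MvPolynomial HomogeneousLocalization
open scoped TensorProduct

namespace Groth.Agent.PLine8

variable {K : Type u} [Field K] {q : P K}

local notation "Ω" => AlgebraicClosure K
local notation "L" => LaurentPolynomial (AlgebraicClosure K)

theorem exists_conj (hq : q.IsHomogeneous 2) (hirr : Irreducible q)
    (hdisc : (q.coeff (Finsupp.single 0 1 + Finsupp.single 1 1)) ^ 2 -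
      4 * q.coeff (Finsupp.single 0 2) * q.coeff (Finsupp.single 1 2) ≠ 0) :
    ∃ (a b c : K) (α β : Ω) (σ : Ω ≃ₐ[K] Ω),
      q = C a * X 0 ^ 2 + C b * (X 0 * X 1) + C c * X 1 ^ 2 ∧ a ≠ 0 ∧
      algebraMap K Ω b = -(algebraMap K Ω a * (α + β)) ∧
      algebraMap K Ω c = algebraMap K Ω a * (α * β) ∧ β - α ≠ 0 ∧ σ α = β := by
  classical
  obtain ⟨ha, hroot⟩ := quad_data hq hirr
  have he := quad_eq hq
  generalize q.coeff (Finsupp.single 0 2) = a at *
  generalize q.coeff (Finsupp.single 0 1 + Finsupp.single 1 1) = b at *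
  generalize q.coeff (Finsupp.single 1 2) = c at *
  set p : Polynomial K := Polynomial.C a * Polynomial.X ^ 2 + Polynomial.C b * Polynomial.X + Polynomial.C c with hp
  have hdeg : p.degree ≠ 0 := by rw [hp, Polynomial.degree_quadratic ha]; decide
  obtain ⟨α, hα⟩ := IsAlgClosed.exists_aeval_eq_zero Ω p hdeg
  rw [hp] at hα
  simp only [map_add, map_mul, map_pow, Polynomial.aeval_C, Polynomial.aeval_X] at hα
  set ι := algebraMap K Ω
  have ha0 : ι a ≠ 0 := (_root_.map_ne_zero _).mpr ha
  set β : Ω := -(ι b / ι a) - α with hβ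
  have hb : ι b = -(ι a * (α + β)) := by rw [hβ]; field_simp; ring
  have hc : ι c = ι a * (α * β) := by
    rw [hβ]; field_simp; linear_combination hα
  have hne : β - α ≠ 0 := by
    intro h
    apply hdisc
    apply (algebraMap K Ω).injective
    simp only [map_sub, map_pow, map_mul, map_ofNat, map_zero]
    change ι b ^ 2 - 4 * ι a * ι c = 0
    rw [hb, hc]
    linear_combination (ι a ^ 2 * (β - α)) * h
  have key : ∀ x : Ω, ι a * x ^ 2 + ι b * x + ι c = 0 →
      minpoly K x = Polynomial.X ^ 2 + Polynomial.C (b / a) * Polynomial.X + Polynomial.C (c / a) := by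
    intro x hx
    set m : Polynomial K := Polynomial.X ^ 2 + Polynomial.C (b / a) * Polynomial.X + Polynomial.C (c / a) with hm
    have hm0 : Polynomial.aeval x m = 0 := by
      rw [hm]
      simp only [map_add, map_mul, map_pow, Polynomial.aeval_C, Polynomial.aeval_X, map_div₀]
      change x ^ 2 + ι b / ι a * x + ι c / ι a = 0
      field_simp
      linear_combination hx
    have hmm : m.Monic := by rw [hm]; monicity!
    have hint : IsIntegral K x := ⟨m, hmm, hm0⟩
    have h2 : 2 ≤ (minpoly K x).natDegree := by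
      rw [minpoly.two_le_natDegree_iff hint]
      rintro ⟨r, hr⟩
      apply hroot r
      apply (algebraMap K Ω).injective
      subst hr
      simpa using hx
    refine Polynomial.eq_of_monic_of_associated (minpoly.monic hint) hmm ?_
    refine Polynomial.associated_of_dvd_of_natDegree_le (minpoly.dvd K x hm0) hmm.ne_zero ?_
    refine le_trans (le_of_eq ?_) h2
    rw [hm]; compute_degree!
  have hβ0 : ι a * β ^ 2 + ι b * β + ι c = 0 := by rw [hb, hc]; ring
  obtain ⟨σ, hσ⟩ := isConjRoot_iff_exists_algEquiv.mp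
    (show IsConjRoot K β α from ((key β hβ0).trans (key α hα).symm))
  exact ⟨a, b, c, α, β, σ, he, ha, hb, hc, hne, hσ⟩

lemma mem_range_of_pow_eq_one (hK : ∀ n : ℕ, 0 < n → (Polynomial.X ^ n - 1 : Polynomial K).Splits)
    {x : Ω} {n : ℕ} (hn : 0 < n) (hx : x ^ n = 1) : x ∈ (algebraMap K Ω).range := by
  have h0 : (Polynomial.X ^ n - 1 : Polynomial K) ≠ 0 :=
    (Polynomial.monic_X_pow_sub_C (1:K) hn.ne').ne_zero |> fun h => by simpa using h
  exact (hK n hn).mem_range_of_isRoot h0 (by simp [Polynomial.IsRoot, hx])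

theorem aut_bound (hK : ∀ n : ℕ, 0 < n → (Polynomial.X ^ n - 1 : Polynomial K).Splits)
    (hq : q.IsHomogeneous 2) {a b c : K}
    (he : q = C a * X 0 ^ 2 + C b * (X 0 * X 1) + C c * X 1 ^ 2) (ha : a ≠ 0)
    (α β : Ω) (σ : Ω ≃ₐ[K] Ω) (hb : algebraMap K Ω b = -(algebraMap K Ω a * (α + β)))
    (hc : algebraMap K Ω c = algebraMap K Ω a * (α * β)) (hne : β - α ≠ 0) (hσ : σ α = β)
    (G : Subgroup (A q ≃+* A q)) [Finite G]
    (hG : ∀ g ∈ G, ∀ (k : K) (z : A q), g (k • z) = k • g z) :
    (∀ g ∈ G, g ^ 2 = 1) ∧ Nat.card G ≤ 4 := by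
  classical
  obtain ⟨E, U, hU, hUi, hEU⟩ := model hq he ha α β hb hc hne
  set cst : Ωˣ →* (Ω ⊗[K] A q)ˣ := Units.map (algebraMap Ω (Ω ⊗[K] A q) : Ω →* Ω ⊗[K] A q) with hcst
  -- every unit
  have hEpow : ∀ (e : ℤ), E ((U ^ e : (Ω ⊗[K] A q)ˣ) : Ω ⊗[K] A q) = LaurentPolynomial.T e := by
    intro e
    induction e using Int.induction_on with
    | zero => simp
    | succ k ih => rw [zpow_add_one, Units.val_mul, map_mul, ih, hEU, LaurentPolynomial.T_add]
    | pred k ih =>
      have hinv : E ((U⁻¹ : (Ω ⊗[K] A q)ˣ) : Ω ⊗[K] A q) = LaurentPolynomial.T (-1) := by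
        have h := congrArg E U.mul_inv
        rw [map_mul, map_one, hEU] at h
        have h2 : (LaurentPolynomial.T (-1) : L) * LaurentPolynomial.T 1 = 1 := by
          rw [← LaurentPolynomial.T_add]; simp
        linear_combination (LaurentPolynomial.T (-1)) * h - E ((U⁻¹ : (Ω ⊗[K] A q)ˣ) : Ω ⊗[K] A q) * h2
      rw [zpow_sub_one, Units.val_mul, map_mul, ih, hinv, sub_eq_add_neg, LaurentPolynomial.T_add]
  have hEc : ∀ (x : Ωˣ) (e : ℤ), E ((cst x * U ^ e : (Ω ⊗[K] A q)ˣ) : Ω ⊗[K] A q) =
      LaurentPolynomial.C (x : Ω) * LaurentPolynomial.T e := fun x e => by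
    rw [Units.val_mul, map_mul, hEpow, hcst, Units.coe_map, MonoidHom.coe_coe, AlgEquiv.commutes,
      LaurentPolynomial.C_eq_algebraMap]
  have hex : ∀ v : (Ω ⊗[K] A q)ˣ, ∃ (x : Ωˣ) (e : ℤ), v = cst x * U ^ e := fun v => by
    obtain ⟨x, e, h⟩ := laurent_unit (Units.map (E : (Ω ⊗[K] A q) →* L) v)
    exact ⟨x, e, Units.ext (E.injective (by rw [hEc]; exact h))⟩
  have huniq : ∀ (x x' : Ωˣ) (e e' : ℤ), cst x * U ^ e = cst x' * U ^ e' → x = x' ∧ e = e' := by
    intro x x' e e' h
    have := congrArg (fun v : (Ω ⊗[K] A q)ˣ => E (v : Ω ⊗[K] A q)) h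
    simp only [hEc] at this
    exact ⟨Units.ext (laurent_inj x.ne_zero this).1, (laurent_inj x.ne_zero this).2⟩
  -- the actions
  let gA : G → (A q →ₐ[K] A q) := fun g =>
    { (g.1 : A q ≃+* A q).toRingHom with
      commutes' := fun k => by
        show g.1 (algebraMap K (A q) k) = _
        have h := hG g.1 g.2 k 1
        rwa [smul_eq, smul_eq, mul_one, map_one, mul_one] at h }
  have gA_apply : ∀ (g : G) z, gA g z = g.1 z := fun g z => rfl
  let gT : G → ((Ω ⊗[K] A q) →ₐ[Ω] (Ω ⊗[K] A q)) := fun g =>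
    Algebra.TensorProduct.map (AlgHom.id Ω Ω) (gA g)
  let gU : G → ((Ω ⊗[K] A q)ˣ →* (Ω ⊗[K] A q)ˣ) := fun g => Units.map (gT g : (Ω ⊗[K] A q) →* (Ω ⊗[K] A q))
  have gU_cst : ∀ g x, gU g (cst x) = cst x := fun g x => Units.ext ((gT g).commutes _)
  have gT_mul : ∀ g h : G, gT (g * h) = (gT g).comp (gT h) := by
    intro g h
    refine Algebra.TensorProduct.ext (Algebra.ext_id _ _ _) (AlgHom.ext fun z => ?_)
    simp [gT, gA]
  have gU_mul : ∀ (g h : G) v, gU (g * h) v = gU g (gU h v) := fun g h v =>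
    Units.ext (by simp [gU, gT_mul g h])
  have gU_one : ∀ v, gU 1 v = v := by
    intro v
    have : gT 1 = AlgHom.id Ω _ := by
      refine Algebra.TensorProduct.ext (Algebra.ext_id _ _ _) (AlgHom.ext fun z => ?_)
      simp [gT, gA]
    exact Units.ext (by simp [gU, this])
  choose x e hxe using fun g : G => hex (gU g U)
  have hcomp : ∀ g h : G, x (g * h) = x h * x g ^ e h ∧ e (g * h) = e g * e h := by
    intro g h
    apply huniq
    rw [← hxe, gU_mul, hxe h, map_mul, map_zpow, gU_cst, hxe g, mul_zpow, ← map_zpow, map_mul,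
      mul_assoc, ← zpow_mul, map_zpow]
  have hone : x 1 = 1 ∧ e 1 = 1 := by
    apply huniq
    rw [← hxe, gU_one, map_one, one_mul, zpow_one]
  have he1 : ∀ g, e g = 1 ∨ e g = -1 := fun g => by
    have := (hcomp g g⁻¹).2
    rw [mul_inv_cancel, hone.2] at this
    exact Int.eq_one_or_neg_one_of_mul_eq_one this.symm
  -- Galois
  let sT : (Ω ⊗[K] A q) →ₐ[K] (Ω ⊗[K] A q) :=
    Algebra.TensorProduct.map (σ : Ω →ₐ[K] Ω) (AlgHom.id K (A q))
  let sU : (Ω ⊗[K] A q)ˣ →* (Ω ⊗[K] A q)ˣ := Units.map (sT : (Ω ⊗[K] A q) →* (Ω ⊗[K] A q))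
  have sT_cst : ∀ t : Ω, sT (algebraMap Ω _ t) = algebraMap Ω _ (σ t) := fun t => by
    simp [sT, Algebra.TensorProduct.algebraMap_apply]
  have sT_one : ∀ z : A q, sT (1 ⊗ₜ z) = 1 ⊗ₜ z := fun z => by simp [sT]
  have sU_U : sU U = U⁻¹ := Units.ext (by
    show sT (U : Ω ⊗[K] A q) = _
    rw [hU, hUi]
    simp only [UU, map_mul, map_add, map_sub, map_pow, map_ofNat, sT_cst, sT_one, hσ,
      AlgEquiv.commutes])
  have sU_cst : ∀ t : Ωˣ, sU (cst t) = cst (Units.map (σ : Ω →* Ω) t) := fun t => Units.ext (sT_cst _)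
  have scomm : ∀ (g : G) v, sU (gU g v) = gU g (sU v) := by
    intro g v
    have : sT.comp ((gT g).restrictScalars K) = ((gT g).restrictScalars K).comp sT := by
      refine Algebra.TensorProduct.ext' fun t z => ?_
      simp [sT, gT]
    exact Units.ext (AlgHom.congr_fun this (v : Ω ⊗[K] A q))
  have hnorm : ∀ g, x g * Units.map (σ : Ω →* Ω) (x g) = 1 := by
    intro g
    have h := scomm g U
    rw [hxe g, map_mul, sU_cst, map_zpow, sU_U, map_inv, hxe g, mul_inv, ← map_inv, inv_zpow, ← zpow_neg,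
      ] at h
    have := (huniq _ _ _ _ (h.trans (by rw [zpow_neg]))).1
    rw [this, mul_inv_cancel]
  -- e = 1 gives sign
  have hpos : ∀ g, e g = 1 → (x g : Ω) = 1 ∨ (x g : Ω) = -1 := by
    intro g hg
    have hn : ∀ n : ℕ, x (g ^ n) = x g ^ n ∧ e (g ^ n) = 1 := by
      intro n
      induction n with
      | zero => simpa using hone
      | succ n ih =>
        rw [pow_succ, (hcomp _ _).1, (hcomp _ _).2, hg, ih.1, ih.2, zpow_one, pow_succ, mul_comm]
        exact ⟨rfl, rfl⟩
    obtain ⟨m, hm, hgm⟩ := (isOfFinOrder_iff_pow_eq_one.mp (isOfFinOrder_of_finite g))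
    have hx : (x g : Ω) ^ m = 1 := by
      rw [← Units.val_pow_eq_pow_val, ← (hn m).1, hgm, hone.1]; rfl
    obtain ⟨k, hk⟩ := mem_range_of_pow_eq_one hK hm hx
    have h := congrArg (fun t : Ωˣ => (t : Ω)) (hnorm g)
    simp only [Units.val_mul, Units.coe_map, MonoidHom.coe_coe, Units.val_one, ← hk, AlgEquiv.commutes] at h
    rw [← hk]
    exact mul_self_eq_one_iff.mp h
  have hsq : ∀ g : G, x (g * g) = 1 ∧ e (g * g) = 1 := by
    intro g
    rcases he1 g with hg | hg
    · refine ⟨?_, by rw [(hcomp g g).2, hg]; rfl⟩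
      rw [(hcomp g g).1, hg, zpow_one]
      exact Units.ext (by rcases hpos g hg with h | h <;> simp [h])
    · refine ⟨?_, by rw [(hcomp g g).2, hg]; rfl⟩
      rw [(hcomp g g).1, hg, zpow_neg_one, mul_inv_cancel]
  -- determination
  have hdet : ∀ g h : G, x g = x h → e g = e h → g = h := by
    intro g h h1 h2
    have hUeq : gU g U = gU h U := by rw [hxe, hxe, h1, h2]
    have hT : gT g = gT h := by
      have key : ((gT g).comp E.symm.toAlgHom) = (gT h).comp E.symm.toAlgHom := by
        refine AlgHom.ext fun p => ?_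
        induction p using LaurentPolynomial.induction_on' with
        | add p r hp hr => simp only [map_add, hp, hr]
        | C_mul_T n t =>
          have hs : E.symm (LaurentPolynomial.C t * LaurentPolynomial.T n) =
              algebraMap Ω _ t * ((U ^ n : (Ω ⊗[K] A q)ˣ) : Ω ⊗[K] A q) := by
            apply E.injective
            rw [AlgEquiv.apply_symm_apply, map_mul, hEpow, AlgEquiv.commutes, LaurentPolynomial.C_eq_algebraMap]
          show gT g (E.symm _) = gT h (E.symm _)
          rw [hs, map_mul, map_mul, AlgHom.commutes, AlgHom.commutes]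
          congr 1
          have := congrArg (fun v : (Ω ⊗[K] A q)ˣ => ((v ^ n : (Ω ⊗[K] A q)ˣ) : Ω ⊗[K] A q)) hUeq
          simp only [← map_zpow] at this
          exact this
      refine AlgHom.ext fun z => ?_
      simpa using AlgHom.congr_fun key (E z)
    apply Subtype.ext
    refine RingEquiv.ext fun z => ?_
    apply Algebra.TensorProduct.includeRight_injective (R := K) (A := Ω) (B := A q) (algebraMap K Ω).injective
    have := AlgHom.congr_fun hT (1 ⊗ₜ z)
    simpa [gT, gA] using this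
  refine ⟨fun g hg => ?_, ?_⟩
  · have h := hdet (⟨g, hg⟩ * ⟨g, hg⟩) 1 ((hsq _).1.trans hone.1.symm) ((hsq _).2.trans hone.2.symm)
    simpa [pow_two, Subtype.ext_iff] using h
  · let ref : G → Ω := fun g =>
      if e g = 1 then 1 else if hh : ∃ h, e h = -1 then (x (Classical.choose hh) : Ω) else 1
    have hdich : ∀ g, (x g : Ω) = ref g ∨ (x g : Ω) = -ref g := by
      intro g
      rcases he1 g with hg | hg
      · simp only [ref, if_pos hg]; exact hpos g hg
      · have hh : ∃ h, e h = -1 := ⟨g, hg⟩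
        have h0 := Classical.choose_spec hh
        have hne1 : ¬ e g = 1 := by omega
        simp only [ref, if_neg hne1, dif_pos hh]
        generalize Classical.choose hh = h at h0 ⊢
        have hp := hpos (g * h) (by rw [(hcomp g h).2, hg, h0]; rfl)
        rw [(hcomp g h).1, h0, zpow_neg_one, Units.val_mul, Units.val_inv_eq_inv_val] at hp
        have hg0 : (x g : Ω) ≠ 0 := (x g).ne_zero
        rcases hp with hp | hp <;> field_simp at hp
        · exact Or.inl hp.symm
        · exact Or.inr (by linear_combination hp)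
    let f : G → Bool × Bool := fun g => (decide (e g = 1), decide ((x g : Ω) = ref g))
    have hf : Function.Injective f := by
      intro g h hgh
      simp only [f, Prod.mk.injEq, decide_eq_decide] at hgh
      have hee : e g = e h := by
        have hiff := hgh.1
        rcases he1 g with a1 | a1 <;> rcases he1 h with a2 | a2 <;> omega
      refine hdet g h (Units.ext ?_) hee
      have hr : ref g = ref h := by simp only [ref, hee]
      by_cases hx : (x g : Ω) = ref g
      · rw [hx, hgh.2.mp hx, hr]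
      · rw [(hdich g).resolve_left hx, (hdich h).resolve_left (fun hh => hx (hgh.2.mpr hh)), hr]
    refine le_trans (Nat.card_le_card_of_injective f hf) ?_
    simp

end Groth.Agent.PLine8
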