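import Mathlib

set_option autoImplicit false
universe u
attribute [local instance] MvPolynomial.gradedAlgebra

open MvPolynomial HomogeneousLocalization
open scoped TensorProduct

namespace Groth.Agent.PLine8

variable {K : Type u} [Field K]

abbrev P (K : Type u) [Field K] := MvPolynomial (Fin 2) K

abbrev A (q : P K) := HomogeneousLocalization.Away (homogeneousSubmodule (Fin 2) K) q

noncomputable def cHom (q : P K) : K →+* A q :=
  (HomogeneousLocalization.fromZeroRingHom (homogeneousSubmodule (Fin 2) K) _).comp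
    (algebraMap K (homogeneousSubmodule (Fin 2) K 0))

noncomputable instance algA (q : P K) : Algebra K (A q) := (cHom q).toAlgebra

lemma val_cHom (q : P K) (k : K) : (cHom q k).val = algebraMap (P K) (Localization.Away q) (C k) := by
  rfl

lemma smul_eq (q : P K) (k : K) (z : A q) :
    k • z = algebraMap K (A q) k * z := by
  apply HomogeneousLocalization.val_injective
  rw [HomogeneousLocalization.val_smul, HomogeneousLocalization.val_mul,
    show algebraMap K (A q) k = cHom q k from rfl, val_cHom, Algebra.smul_def,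
    IsScalarTower.algebraMap_apply K (P K) (Localization.Away q)]
  rfl

lemma mem_supp {q : P K} (hq : q.IsHomogeneous 2) (d : Fin 2 →₀ ℕ) (hd : q.coeff d ≠ 0) :
    d 0 + d 1 = 2 := by
  have := hq hd
  simpa [Finsupp.weight_apply, Finsupp.sum_fintype, Fin.sum_univ_two] using this

lemma quad_eq {q : P K} (hq : q.IsHomogeneous 2) :
    q = C (q.coeff (Finsupp.single 0 2)) * X 0 ^ 2
      + C (q.coeff (Finsupp.single 0 1 + Finsupp.single 1 1)) * (X 0 * X 1)
      + C (q.coeff (Finsupp.single 1 2)) * X 1 ^ 2 := by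
  classical
  have hdeg : ∀ d : Fin 2 →₀ ℕ, q.coeff d ≠ 0 → d = Finsupp.single 0 2 ∨
      d = Finsupp.single 0 1 + Finsupp.single 1 1 ∨ d = Finsupp.single 1 2 := by
    intro d hd
    have h2 := mem_supp hq d hd
    rcases (show d 0 = 2 ∨ d 0 = 1 ∨ d 0 = 0 by omega) with h | h | h
    · refine Or.inl (Finsupp.ext fun i => ?_)
      fin_cases i <;> simp [h]
      omega
    · refine Or.inr (Or.inl (Finsupp.ext fun i => ?_))
      fin_cases i <;> simp [h]
      omega
    · refine Or.inr (Or.inr (Finsupp.ext fun i => ?_))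
      fin_cases i <;> simp [h]
      omega
  have hx : (X 0 : P K) * X 1 = monomial (Finsupp.single 0 1 + Finsupp.single 1 1) 1 := by
    rw [X, X, monomial_mul, one_mul]
  rw [hx, X_pow_eq_monomial, X_pow_eq_monomial, C_mul_monomial, C_mul_monomial, C_mul_monomial]
  ext d
  simp only [coeff_add, coeff_monomial, mul_one]
  have e12 : (Finsupp.single 0 2 : Fin 2 →₀ ℕ) ≠ Finsupp.single 0 1 + Finsupp.single 1 1 := by
    intro e; simpa using DFunLike.congr_fun e 1
  have e13 : (Finsupp.single 0 2 : Fin 2 →₀ ℕ) ≠ Finsupp.single 1 2 := by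
    intro e; simpa using DFunLike.congr_fun e 1
  have e23 : (Finsupp.single 0 1 + Finsupp.single 1 1 : Fin 2 →₀ ℕ) ≠ Finsupp.single 1 2 := by
    intro e; simpa using DFunLike.congr_fun e 0
  by_cases h0 : q.coeff d = 0
  · have f1 : d = Finsupp.single 0 2 → q.coeff (Finsupp.single 0 2) = 0 := fun e => e ▸ h0
    have f2 : d = Finsupp.single 0 1 + Finsupp.single 1 1 →
        q.coeff (Finsupp.single 0 1 + Finsupp.single 1 1) = 0 := fun e => e ▸ h0
    have f3 : d = Finsupp.single 1 2 → q.coeff (Finsupp.single 1 2) = 0 := fun e => e ▸ h0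
    rw [h0]; split_ifs with u1 u2 u3 <;> simp_all
  · rcases hdeg d h0 with rfl | rfl | rfl <;> simp [e12, e13, e23, e12.symm, e13.symm, e23.symm]

lemma not_unit_lin (b c : K) : ¬ IsUnit (C b * X 0 + C c * X 1 : P K) := by
  intro h
  have := h.map (constantCoeff : P K →+* K)
  simp at this

/-- Data attached to an irreducible quadratic form. -/
theorem quad_data {q : P K} (hq : q.IsHomogeneous 2) (hirr : Irreducible q) :
    q.coeff (Finsupp.single 0 2) ≠ 0 ∧ ∀ r : K,
      q.coeff (Finsupp.single 0 2) * r ^ 2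
        + q.coeff (Finsupp.single 0 1 + Finsupp.single 1 1) * r
        + q.coeff (Finsupp.single 1 2) ≠ 0 := by
  have he := quad_eq hq
  generalize q.coeff (Finsupp.single 0 2) = a at he ⊢
  generalize q.coeff (Finsupp.single 0 1 + Finsupp.single 1 1) = b at he ⊢
  generalize q.coeff (Finsupp.single 1 2) = c at he ⊢
  have hX : ¬ IsUnit (X 1 : P K) := by
    simpa using not_unit_lin (0:K) 1
  constructor
  · rintro rfl
    have : q = X 1 * (C b * X 0 + C c * X 1) := by rw [he, C_0]; ring
    rcases hirr.isUnit_or_isUnit this with h | h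
    · exact hX h
    · exact not_unit_lin _ _ h
  · intro r hr
    have hc : c = -(a * r ^ 2) - b * r := by linear_combination hr
    have : q = (C 1 * X 0 + C (-r) * X 1) * (C a * X 0 + C (a * r + b) * X 1) := by
      rw [he, hc]; simp; ring
    rcases hirr.isUnit_or_isUnit this with h | h <;> exact not_unit_lin _ _ h

lemma laurent_unit {F : Type*} [Field F] (f : (LaurentPolynomial F)ˣ) :
    ∃ (c : Fˣ) (e : ℤ), (f : LaurentPolynomial F) = LaurentPolynomial.C (c:F) * LaurentPolynomial.T e := by
  classical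
  obtain ⟨n, f', hf⟩ := LaurentPolynomial.exists_T_pow (f : LaurentPolynomial F)
  obtain ⟨m, g', hg⟩ := LaurentPolynomial.exists_T_pow ((f⁻¹ : (LaurentPolynomial F)ˣ) : LaurentPolynomial F)
  have hprod : f' * g' = Polynomial.X ^ (n + m) := by
    apply Polynomial.toLaurent_injective
    rw [map_mul, hf, hg, Polynomial.toLaurent_X_pow, Nat.cast_add, LaurentPolynomial.T_add]
    linear_combination (LaurentPolynomial.T (n:ℤ) * LaurentPolynomial.T (m:ℤ)) * f.mul_inv
  obtain ⟨i, -, hi⟩ := (dvd_prime_pow Polynomial.prime_X (n + m)).mp ⟨g', hprod.symm⟩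
  obtain ⟨v, hv⟩ := hi.symm
  obtain ⟨c, hc, hcv⟩ := Polynomial.isUnit_iff.mp v.isUnit
  refine ⟨hc.unit, (i:ℤ) - n, ?_⟩
  have : (f : LaurentPolynomial F) = Polynomial.toLaurent f' * LaurentPolynomial.T (-n:ℤ) := by
    rw [hf, LaurentPolynomial.mul_T_assoc]; simp
  rw [this, ← hv, ← hcv, map_mul, Polynomial.toLaurent_X_pow, Polynomial.toLaurent_C,
    IsUnit.unit_spec, sub_eq_add_neg, LaurentPolynomial.T_add]
  ring

lemma laurent_inj {F : Type*} [Field F] {c d : F} (hc : c ≠ 0) {m n : ℤ}
    (h : LaurentPolynomial.C c * LaurentPolynomial.T m = LaurentPolynomial.C d * LaurentPolynomial.T n) :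
    c = d ∧ m = n := by
  rw [← LaurentPolynomial.single_eq_C_mul_T, ← LaurentPolynomial.single_eq_C_mul_T] at h
  have h' : (AddMonoidAlgebra.single m c : LaurentPolynomial F).coeff m = (AddMonoidAlgebra.single n d : LaurentPolynomial F).coeff m := by rw [h]
  simp only [AddMonoidAlgebra.coeff_single, Finsupp.single_apply] at h'
  by_cases e : m = n
  · subst e; simp at h'; exact ⟨h', rfl⟩
  · simp [Ne.symm e] at h'; exact absurd h' hc

end Groth.Agent.PLine8
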