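import Groth.Agent.PLine8.Basic

set_option autoImplicit false
universe u
attribute [local instance] MvPolynomial.gradedAlgebra

open MvPolynomial HomogeneousLocalization
open scoped TensorProduct

namespace Groth.Agent.PLine8

variable {K : Type u} [Field K] {q : P K}

lemma mul_mem_two (i j : Fin 2) :
    (X i * X j : P K) ∈ homogeneousSubmodule (Fin 2) K (1 • 2) := by
  simpa using (isHomogeneous_X K i).mul (isHomogeneous_X K j)

noncomputable def uu (hq : q.IsHomogeneous 2) (i j : Fin 2) : A q :=
  HomogeneousLocalization.Away.mk (homogeneousSubmodule (Fin 2) K) (d := 2) hq 1 (X i * X j) (mul_mem_two i j)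

noncomputable abbrev inv (q : P K) : Localization.Away q := IsLocalization.Away.invSelf q

lemma loc_mk (x : P K) (n : ℕ) :
    Localization.mk x (⟨q ^ n, n, rfl⟩ : Submonoid.powers q) = algebraMap (P K) (Localization.Away q) x * inv q ^ n := by
  rw [Localization.mk_eq_mk', IsLocalization.mk'_eq_iff_eq_mul]
  have h : algebraMap (P K) (Localization.Away q) q * inv q = 1 := IsLocalization.Away.mul_invSelf q
  rw [mul_assoc, map_pow, ← mul_pow, mul_comm (inv q), h, one_pow, mul_one]

lemma val_mk' (hq : q.IsHomogeneous 2) (n : ℕ) (x : P K) (hx) :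
    (HomogeneousLocalization.Away.mk (homogeneousSubmodule (Fin 2) K) (d := 2) hq n x hx).val =
      algebraMap (P K) (Localization.Away q) x * inv q ^ n := by
  rw [HomogeneousLocalization.Away.val_mk]; exact loc_mk x n

lemma val_uu (hq : q.IsHomogeneous 2) (i j : Fin 2) :
    (uu hq i j).val = algebraMap (P K) (Localization.Away q) (X i * X j) * inv q := by
  rw [uu, val_mk', pow_one]

lemma uu_sq (hq : q.IsHomogeneous 2) : uu hq 0 1 * uu hq 0 1 = uu hq 0 0 * uu hq 1 1 := by
  apply HomogeneousLocalization.val_injective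
  simp only [HomogeneousLocalization.val_mul, val_uu, map_mul]
  ring

lemma val_algebraMap (k : K) :
    (algebraMap K (A q) k).val = algebraMap (P K) (Localization.Away q) (C k) := val_cHom q k

lemma uu_lin (hq : q.IsHomogeneous 2) {a b c : K}
    (he : q = C a * X 0 ^ 2 + C b * (X 0 * X 1) + C c * X 1 ^ 2) :
    algebraMap K (A q) a * uu hq 0 0 + algebraMap K (A q) b * uu hq 0 1
      + algebraMap K (A q) c * uu hq 1 1 = 1 := by
  apply HomogeneousLocalization.val_injective
  simp only [HomogeneousLocalization.val_add, HomogeneousLocalization.val_mul,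
    HomogeneousLocalization.val_one, val_uu, val_algebraMap, ← mul_assoc, ← map_mul, ← add_mul,
    ← map_add]
  have : C a * X 0 * X 0 + C b * X 0 * X 1 + C c * X 1 * X 1 = q := by
    conv_rhs => rw [he]
    ring
  rw [this]
  exact IsLocalization.Away.mul_invSelf q

lemma uu_top (hq : q.IsHomogeneous 2) (S : Subalgebra K (A q)) (h0 : uu hq 0 0 ∈ S)
    (h1 : uu hq 0 1 ∈ S) (h2 : uu hq 1 1 ∈ S) (z : A q) : z ∈ S := by
  classical
  obtain ⟨n, x, hx, rfl⟩ := HomogeneousLocalization.Away.mk_surjective (homogeneousSubmodule (Fin 2) K) (d := 2) hq z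
  have hmon : ∀ d : Fin 2 →₀ ℕ, d 0 + d 1 = n * 2 → ∀ r : K, ∃ w ∈ S,
      w.val = algebraMap (P K) (Localization.Away q) (monomial d r) * inv q ^ n := by
    intro d hd r
    refine ⟨algebraMap K (A q) r * (uu hq 0 0 ^ (d 0 / 2) * uu hq 0 1 ^ (d 0 % 2) * uu hq 1 1 ^ (d 1 / 2)),
      mul_mem (S.algebraMap_mem r) (mul_mem (mul_mem (pow_mem h0 _) (pow_mem h1 _)) (pow_mem h2 _)), ?_⟩
    have hm : monomial d r = C r * (X 0 ^ d 0 * X 1 ^ d 1) := by
      rw [monomial_eq]; congr 1
      rw [Finsupp.prod_fintype _ _ (fun i => pow_zero _), Fin.prod_univ_two]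
    have hn : n = d 0 / 2 + d 0 % 2 + d 1 / 2 := by omega
    have e0 : d 0 = 2 * (d 0 / 2) + d 0 % 2 := by omega
    have e1 : d 1 = 2 * (d 1 / 2) + d 0 % 2 := by omega
    rw [hm]
    simp only [HomogeneousLocalization.val_mul, HomogeneousLocalization.val_pow, val_uu, val_algebraMap]
    generalize d 0 / 2 = i at *
    generalize d 1 / 2 = j at *
    generalize d 0 % 2 = t at *
    rw [e0, e1, hn]
    simp only [map_mul, map_pow, pow_add, pow_mul, mul_pow]
    ring
  have hsum : ∃ w ∈ S, w.val = algebraMap (P K) (Localization.Away q) x * inv q ^ n := by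
    have hx' : x.IsHomogeneous (n * 2) := by simpa using hx
    choose w hwS hw using fun d : x.support => hmon d.1 (by
      have := hx' (mem_support_iff.mp d.2)
      simpa [Finsupp.weight_apply, Finsupp.sum_fintype, Fin.sum_univ_two] using this) (x.coeff d.1)
    refine ⟨∑ d, w d, sum_mem fun d _ => hwS d, ?_⟩
    have hv : ∀ s : Finset x.support, (∑ d ∈ s, w d).val = ∑ d ∈ s, (w d).val := by
      intro s
      induction s using Finset.induction_on with
      | empty => simp
      | insert _ _ h ih => simp [Finset.sum_insert h, ih]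
    rw [hv, Finset.sum_congr rfl (fun d _ => hw d), ← Finset.sum_mul, ← map_sum]
    congr 2
    conv_rhs => rw [as_sum x]
    exact Finset.sum_coe_sort x.support (fun d => monomial d (x.coeff d))
  obtain ⟨w, hwS, hw⟩ := hsum
  convert hwS
  apply HomogeneousLocalization.val_injective
  rw [hw, val_mk']

end Groth.Agent.PLine8
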