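import Groth.Agent.PLine8.Gens

set_option autoImplicit false
set_option maxHeartbeats 1000000
universe u
attribute [local instance] MvPolynomial.gradedAlgebra

open MvPolynomial HomogeneousLocalization
open scoped TensorProduct

namespace Groth.Agent.PLine8

variable {K : Type u} [Field K] {q : P K}

local notation "Ω" => AlgebraicClosure K
local notation "L" => LaurentPolynomial (AlgebraicClosure K)

/-- the U element -/
noncomputable def UU (hq : q.IsHomogeneous 2) (a α : Ω) : Ω ⊗[K] A q :=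
  algebraMap Ω _ a * (1 ⊗ₜ uu hq 0 0 - 2 * algebraMap Ω _ α * (1 ⊗ₜ uu hq 0 1)
    + algebraMap Ω _ α ^ 2 * (1 ⊗ₜ uu hq 1 1))

theorem model (hq : q.IsHomogeneous 2) {a b c : K}
    (he : q = C a * X 0 ^ 2 + C b * (X 0 * X 1) + C c * X 1 ^ 2) (ha : a ≠ 0)
    (α β : Ω) (hb : algebraMap K Ω b = -(algebraMap K Ω a * (α + β)))
    (hc : algebraMap K Ω c = algebraMap K Ω a * (α * β)) (hne : β - α ≠ 0) :
    ∃ (e : (Ω ⊗[K] A q) ≃ₐ[Ω] L) (U : (Ω ⊗[K] A q)ˣ),
      (U : Ω ⊗[K] A q) = UU hq (algebraMap K Ω a) α ∧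
      ((U⁻¹ : (Ω ⊗[K] A q)ˣ) : Ω ⊗[K] A q) = UU hq (algebraMap K Ω a) β ∧
      e (U : Ω ⊗[K] A q) = LaurentPolynomial.T 1 := by
  classical
  set a' := algebraMap K Ω a with ha'
  have ha0 : a' ≠ 0 := (_root_.map_ne_zero _).mpr ha
  set cl : Ω →+* L := LaurentPolynomial.C
  set d : Ω := β - α with hd
  let Xv : L := cl (β / d) * LaurentPolynomial.T 1 - cl (α / d)
  let Yv : L := cl (1 / d) * LaurentPolynomial.T 1 - cl (1 / d)
  let φ : P K →ₐ[K] L := aeval ![Xv, Yv]
  have hKL : ∀ k : K, algebraMap K L k = cl (algebraMap K Ω k) := fun k => by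
    rw [IsScalarTower.algebraMap_apply K Ω L, LaurentPolynomial.C_eq_algebraMap]
  have hφq : φ q = cl a' * LaurentPolynomial.T 1 := by
    conv_lhs => rw [he]
    have hφC : ∀ k, φ (C k) = cl (algebraMap K Ω k) := fun k => by
      rw [← hKL]; exact φ.commutes k
    rw [map_add, map_add, map_mul, map_mul, map_mul, map_mul, map_pow, map_pow, hφC, hφC, hφC,
      show φ (X 0) = Xv by simp [φ], show φ (X 1) = Yv by simp [φ], hb, hc]
    have h1 : cl d * cl (1 / d) = 1 := by rw [← map_mul, mul_one_div_cancel hne, map_one]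
    have h2 : cl (β / d) = cl β * cl (1 / d) := by rw [← map_mul]; congr 1; ring
    have h3 : cl (α / d) = cl α * cl (1 / d) := by rw [← map_mul]; congr 1; ring
    have h4 : cl d = cl β - cl α := map_sub _ _ _
    simp only [Xv, Yv, h2, h3, map_neg, map_mul, map_add]
    rw [h4] at h1
    linear_combination (cl a' * LaurentPolynomial.T 1 * ((cl β - cl α) * cl (1 / d) + 1)) * h1
  have hu : IsUnit (φ.toRingHom q) := by
    show IsUnit (φ q)
    rw [hφq]; exact ((isUnit_iff_ne_zero.mpr ha0).map cl).mul (LaurentPolynomial.isUnit_T 1)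
  let φl : Localization.Away q →+* L := IsLocalization.Away.lift q hu
  have hφl : ∀ x, φl (algebraMap (P K) (Localization.Away q) x) = φ x :=
    fun x => IsLocalization.Away.lift_eq q hu x
  let φA : A q →ₐ[K] L :=
    { toFun := fun z => φl z.val
      map_one' := by rw [HomogeneousLocalization.val_one, map_one]
      map_mul' := fun x y => by rw [HomogeneousLocalization.val_mul, map_mul]
      map_zero' := by rw [HomogeneousLocalization.val_zero, map_zero]
      map_add' := fun x y => by rw [HomogeneousLocalization.val_add, map_add]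
      commutes' := fun k => by
        show φl (algebraMap K (A q) k).val = _
        rw [val_algebraMap, hφl]; exact φ.commutes k }
  have hinv : φl (inv q) = cl (1 / a') * LaurentPolynomial.T (-1) := by
    have h := congrArg φl (IsLocalization.Away.mul_invSelf (S := Localization.Away q) q)
    rw [map_mul, map_one, hφl, hφq] at h
    have h1 : cl a' * cl (1 / a') = 1 := by rw [← map_mul, mul_one_div_cancel ha0, map_one]
    have h2 : (LaurentPolynomial.T 1 : L) * LaurentPolynomial.T (-1) = 1 := by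
      rw [← LaurentPolynomial.T_add]; simp
    linear_combination (cl (1 / a') * LaurentPolynomial.T (-1)) * h - φl (inv q) * (LaurentPolynomial.T 1 * LaurentPolynomial.T (-1)) * h1 - φl (inv q) * h2
  let f : (Ω ⊗[K] A q) →ₐ[Ω] L :=
    Algebra.TensorProduct.lift (Algebra.ofId Ω L) φA (fun _ _ => Commute.all _ _)
  have hf1 : ∀ i j, f (1 ⊗ₜ uu hq i j) =
      φ (X i) * φ (X j) * (cl (1 / a') * LaurentPolynomial.T (-1)) := fun i j => by
    rw [Algebra.TensorProduct.lift_tmul, map_one, one_mul]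
    show φl (uu hq i j).val = _
    rw [val_uu, map_mul, hφl, hinv, map_mul]
  have hfC : ∀ x : Ω, f (algebraMap Ω _ x) = cl x := fun x => by
    rw [f.commutes, LaurentPolynomial.C_eq_algebraMap]
  have hcompute : ∀ γ : Ω, f (UU hq a' γ) = cl a' *
      ((Xv - cl γ * Yv) ^ 2 * (cl (1 / a') * LaurentPolynomial.T (-1))) := fun γ => by
    simp only [UU, map_add, map_sub, map_mul, map_pow, map_ofNat, hfC, hf1,
      show φ (X 0) = Xv by simp [φ], show φ (X 1) = Yv by simp [φ]]
    ring
  have hA : cl a' * cl (1 / a') = 1 := by rw [← map_mul, mul_one_div_cancel ha0, map_one]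
  have hxa : Xv - cl α * Yv = LaurentPolynomial.T 1 := by
    have h1 : cl (β / d) - cl α * cl (1 / d) = 1 := by
      rw [← map_mul, ← map_sub, mul_one_div, ← sub_div, div_self hne, map_one]
    have h2 : cl (α / d) = cl α * cl (1 / d) := by rw [← map_mul]; congr 1; ring
    simp only [Xv, Yv]; rw [h2]
    linear_combination (LaurentPolynomial.T 1 : L) * h1
  have hxb : Xv - cl β * Yv = 1 := by
    have h1 : cl β * cl (1 / d) - cl (α / d) = 1 := by
      rw [← map_mul, ← map_sub, mul_one_div, ← sub_div, div_self hne, map_one]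
    have h2 : cl (β / d) = cl β * cl (1 / d) := by rw [← map_mul]; congr 1; ring
    simp only [Xv, Yv]; rw [h2]
    linear_combination h1
  have hTT : (LaurentPolynomial.T 1 : L) * LaurentPolynomial.T (-1) = 1 := by
    rw [← LaurentPolynomial.T_add]; simp
  have hfU : f (UU hq a' α) = LaurentPolynomial.T 1 := by
    rw [hcompute, hxa]
    linear_combination (LaurentPolynomial.T 1 * LaurentPolynomial.T 1 * LaurentPolynomial.T (-1)) * hA
      + LaurentPolynomial.T 1 * hTT
  have hfV : f (UU hq a' β) = LaurentPolynomial.T (-1) := by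
    rw [hcompute, hxb]
    linear_combination LaurentPolynomial.T (-1) * hA
  -- relations in the tensor product
  have r1 : ((1:Ω) ⊗ₜ[K] uu hq 0 1) * (1 ⊗ₜ uu hq 0 1) = (1 ⊗ₜ uu hq 0 0) * (1 ⊗ₜ uu hq 1 1) := by
    simp only [Algebra.TensorProduct.tmul_mul_tmul, uu_sq]
  have hcst : ∀ k : K, algebraMap Ω (Ω ⊗[K] A q) (algebraMap K Ω k) = 1 ⊗ₜ algebraMap K (A q) k := by
    intro k
    rw [← IsScalarTower.algebraMap_apply]
    exact ((Algebra.TensorProduct.includeRight (R := K) (A := Ω) (B := A q)).commutes k).symm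
  have r2 : algebraMap Ω (Ω ⊗[K] A q) a' * ((1 ⊗ₜ uu hq 0 0) - (algebraMap Ω _ α + algebraMap Ω _ β) * (1 ⊗ₜ uu hq 0 1)
      + algebraMap Ω _ α * algebraMap Ω _ β * (1 ⊗ₜ uu hq 1 1)) = 1 := by
    have h : algebraMap Ω (Ω ⊗[K] A q) (algebraMap K Ω a) * (1 ⊗ₜ uu hq 0 0) +
        algebraMap Ω _ (algebraMap K Ω b) * (1 ⊗ₜ uu hq 0 1) +
        algebraMap Ω _ (algebraMap K Ω c) * (1 ⊗ₜ uu hq 1 1) = 1 := by
      simp only [hcst, Algebra.TensorProduct.tmul_mul_tmul, ← TensorProduct.tmul_add, mul_one, uu_lin hq he, Algebra.TensorProduct.one_def]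
    rw [hb, hc] at h
    simp only [map_neg, map_mul, map_add] at h
    linear_combination h
  have hUV : UU hq a' α * UU hq a' β = 1 := by
    simp only [UU]
    linear_combination (4 * (algebraMap Ω (Ω ⊗[K] A q) a') ^ 2 * algebraMap Ω _ α * algebraMap Ω _ β
        - (algebraMap Ω (Ω ⊗[K] A q) a') ^ 2 * (algebraMap Ω _ α + algebraMap Ω _ β) ^ 2) * r1
      + (algebraMap Ω (Ω ⊗[K] A q) a' * ((1 ⊗ₜ uu hq 0 0) - (algebraMap Ω _ α + algebraMap Ω _ β) * (1 ⊗ₜ uu hq 0 1)
        + algebraMap Ω _ α * algebraMap Ω _ β * (1 ⊗ₜ uu hq 1 1)) + 1) * r2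
  let U : (Ω ⊗[K] A q)ˣ := ⟨UU hq a' α, UU hq a' β, hUV, by rw [mul_comm, hUV]⟩
  let g : L →ₐ[Ω] (Ω ⊗[K] A q) :=
    { LaurentPolynomial.eval₂ (algebraMap Ω (Ω ⊗[K] A q)) U with
      commutes' := fun x => by
        rw [← LaurentPolynomial.C_eq_algebraMap]
        exact LaurentPolynomial.eval₂_C _ _ x }
  have hgC : ∀ x : Ω, g (cl x) = algebraMap Ω _ x := fun x => LaurentPolynomial.eval₂_C _ _ x
  have hgT : ∀ n : ℤ, g (LaurentPolynomial.T n) = ((U ^ n : (Ω ⊗[K] A q)ˣ) : Ω ⊗[K] A q) :=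
    fun n => LaurentPolynomial.eval₂_T _ _ n
  have hgT1 : g (LaurentPolynomial.T 1) = UU hq a' α := by rw [hgT, zpow_one]
  have hgTn : g (LaurentPolynomial.T (-1)) = UU hq a' β := by rw [hgT, zpow_neg_one]; rfl
  -- generators
  set u0 := (1:Ω) ⊗ₜ[K] uu hq 0 0 with hu0
  set u1 := (1:Ω) ⊗ₜ[K] uu hq 0 1 with hu1
  set u2 := (1:Ω) ⊗ₜ[K] uu hq 1 1 with hu2
  set ia := algebraMap Ω (Ω ⊗[K] A q) with hia
  have hdd : ia (β - α) ^ 2 * ia (1 / d) ^ 2 = 1 := by
    rw [← mul_pow, ← map_mul, mul_one_div_cancel hne, map_one, one_pow]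
  have haa : ia a' * ia (1 / a') = 1 := by rw [← map_mul, mul_one_div_cancel ha0, map_one]
  have hgX : g Xv = ia β * ia (1 / d) * UU hq a' α - ia α * ia (1 / d) := by
    have e1 : cl (β / d) = cl β * cl (1 / d) := by rw [← map_mul]; congr 1; ring
    have e2 : cl (α / d) = cl α * cl (1 / d) := by rw [← map_mul]; congr 1; ring
    simp only [Xv, e1, e2, map_sub, map_mul, hgC, hgT1, hia]
  have hgY : g Yv = ia (1 / d) * UU hq a' α - ia (1 / d) := by
    simp only [Yv, map_sub, map_mul, hgC, hgT1, hia]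
  have hgx : g (φ (X 0)) = g Xv := by simp [φ]
  have hgy : g (φ (X 1)) = g Yv := by simp [φ]
  simp only [map_sub] at hdd
  have k2 : g (f u2) = u2 := by
    rw [hf1, map_mul, map_mul, map_mul, hgy, hgY, hgC, hgTn]
    have e : UU hq a' α + UU hq a' β - 2 = ia a' * (ia α - ia β) ^ 2 * u2 := by
      simp only [UU]; linear_combination 2 * r2
    linear_combination (ia (1/d) ^ 2 * ia (1/a') * (UU hq a' α - 2)) * hUV
      + (ia (1/d) ^ 2 * ia (1/a')) * e + (u2 * ia (1/a') * ia a') * hdd + u2 * haa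
  have k1 : g (f u1) = u1 := by
    rw [hf1, map_mul, map_mul, map_mul, hgx, hgy, hgX, hgY, hgC, hgTn]
    have e : ia β * UU hq a' α + ia α * UU hq a' β - (ia α + ia β) = ia a' * (ia β - ia α) ^ 2 * u1 := by
      simp only [UU]; linear_combination (ia α + ia β) * r2
    linear_combination (ia (1/d) ^ 2 * ia (1/a') * (ia β * UU hq a' α - (ia α + ia β))) * hUV
      + (ia (1/d) ^ 2 * ia (1/a')) * e + (u1 * ia (1/a') * ia a') * hdd + u1 * haa
  have k0 : g (f u0) = u0 := by
    rw [hf1, map_mul, map_mul, map_mul, hgx, hgX, hgC, hgTn]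
    have e : ia β ^ 2 * UU hq a' α + ia α ^ 2 * UU hq a' β - 2 * ia α * ia β = ia a' * (ia β - ia α) ^ 2 * u0 := by
      simp only [UU]; linear_combination 2 * ia α * ia β * r2
    linear_combination (ia (1/d) ^ 2 * ia (1/a') * (ia β ^ 2 * UU hq a' α - 2 * ia α * ia β)) * hUV
      + (ia (1/d) ^ 2 * ia (1/a')) * e + (u0 * ia (1/a') * ia a') * hdd + u0 * haa
  have hgf : g.comp f = AlgHom.id Ω _ := by
    let S : Subalgebra K (A q) := AlgHom.equalizer
      (((g.comp f).restrictScalars K).comp Algebra.TensorProduct.includeRight)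
      (Algebra.TensorProduct.includeRight : A q →ₐ[K] Ω ⊗[K] A q)
    have hS : ∀ z, z ∈ S := uu_top hq S k0 k1 k2
    refine Algebra.TensorProduct.ext (Algebra.ext_id _ _ _) (AlgHom.ext fun z => ?_)
    exact hS z
  have hfg : f.comp g = AlgHom.id Ω L := by
    refine AlgHom.ext fun p => ?_
    induction p using LaurentPolynomial.induction_on' with
    | add p r hp hr => simp only [map_add, hp, hr]
    | C_mul_T n x =>
      show f (g (cl x * LaurentPolynomial.T n)) = cl x * LaurentPolynomial.T n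
      rw [map_mul, map_mul, hgC, hfC, hgT]
      congr 1
      have hUf : Units.map (f : (Ω ⊗[K] A q) →* L) U = (LaurentPolynomial.isUnit_T 1).unit :=
        Units.ext hfU
      have : f ((U ^ n : (Ω ⊗[K] A q)ˣ) : Ω ⊗[K] A q) = (((LaurentPolynomial.isUnit_T 1).unit ^ n : Lˣ) : L) := by
        rw [← hUf, ← map_zpow]; rfl
      rw [this]
      have h : ((LaurentPolynomial.isUnit_T (R := Ω) 1).unit) = Units.mk (LaurentPolynomial.T 1) (LaurentPolynomial.T (-1)) hTT (by rw [mul_comm]; exact hTT) := Units.ext rfl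
      rw [h]
      clear this
      induction n using Int.induction_on with
      | zero => simp
      | succ k ih => rw [zpow_add_one, Units.val_mul, ih, LaurentPolynomial.T_add]
      | pred k ih => rw [zpow_sub_one, Units.val_mul, ih, sub_eq_add_neg, LaurentPolynomial.T_add]; rfl
  exact ⟨AlgEquiv.ofAlgHom f g hfg hgf, U, rfl, rfl, hfU⟩

end Groth.Agent.PLine8
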